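import Cfsg.Agent.Lib.Char.CliffordCorr
import Cfsg.Agent.Lib.Char.Constituent
import Cfsg.Agent.Lib.Char.Linear
import Cfsg.Agent.Lib.Char.Integral
import Cfsg.Agent.Lib.Char.CoherenceKernel
import Cfsg.Agent.Lib.CharDeep.ItoMichler
import Cfsg.Agent.S0887

/-!
# Groups all of whose irreducible characters have degree `1` or `m`: basic facts
-/

set_option autoImplicit false

namespace CfsgLib.Char.TwoDegrees

universe u

variable {G : Type u} [Group G] [Finite G]

/-- All irreducible degrees are `1` or `m`. -/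
def TwoDeg (G : Type u) [Group G] (m : ℕ) : Prop :=
  ∀ χ : G → ℂ, Cfsg.IsIrrCharacter G χ → χ 1 = 1 ∨ χ 1 = (m : ℂ)

theorem twoDeg_of_charDegree {m : ℕ} (hcd : ∀ χ : Cfsg.IrrCharacter G,
    Cfsg.charDegree (χ : G → ℂ) = 1 ∨ Cfsg.charDegree (χ : G → ℂ) = m) : TwoDeg G m := by
  intro χ hχ
  have h := CfsgLib.DegreeTools.charDegree_cast (IsIrrCharacter.isCharacter hχ)
  rcases hcd ⟨χ, hχ⟩ with h1 | h1
  · refine Or.inl ?_
    rw [← h, show Cfsg.charDegree χ = 1 from h1, Nat.cast_one]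
  · refine Or.inr ?_
    rw [← h, show Cfsg.charDegree χ = m from h1]

theorem TwoDeg.of_surjective {m : ℕ} (h : TwoDeg G m) {Q : Type*} [Group Q] (f : G →* Q)
    (hf : Function.Surjective f) : TwoDeg Q m := fun χ hχ => by
  have := h _ (IsIrrCharacter.comp_surjective hχ f hf)
  rwa [Function.comp_apply, map_one] at this

/-- A degree is at most the index of an abelian subgroup. -/
theorem degree_le_index {A : Subgroup G} (hA : ∀ a ∈ A, ∀ b ∈ A, a * b = b * a) {χ : G → ℂ}
    (hχ : Cfsg.IsIrrCharacter G χ) : ∃ d : ℕ, χ 1 = d ∧ 0 < d ∧ d ≤ A.index := by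
  classical
  cases nonempty_fintype G
  obtain ⟨d, hd, hd'⟩ := IsIrrCharacter.apply_one_eq hχ
  have hres : Cfsg.IsCharacter A (fun a : A => χ a) :=
    IsCharacter.restrict (IsIrrCharacter.isCharacter hχ) A
  obtain ⟨lam, hlam, hne⟩ := IsCharacter.exists_constituent hres (fun h0 => by
    have h1 := congrFun h0 1
    simp only [Subgroup.coe_one, Pi.zero_apply, hd', Nat.cast_eq_zero] at h1
    omega)
  have hlam1 : lam 1 = 1 :=
    apply_one_eq_one_of_comm (fun a b => Subtype.ext (hA a a.2 b b.2)) hlam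
  have hlc := IsIrrCharacter.isCharacter hlam
  have hne' : Cfsg.classInner (Cfsg.indFun A lam) χ ≠ 0 := by
    rw [classInner_indFun A lam (IsIrrCharacter.isClassFunction hχ),
      IsCharacter.classInner_comm hlc hres]
    exact hne
  obtain ⟨a, b, ha, hb, hab, -⟩ :=
    IsCharacter.constituent_degree_le (IsCharacter.indFun A hlc) hχ hne'
  rw [indFun_one, hlam1, mul_one, Nat.cast_inj] at hb
  refine ⟨d, hd', hd, ?_⟩
  rw [hd', Nat.cast_inj] at ha
  omega

theorem TwoDeg.comm_of_index_lt {m : ℕ} (h : TwoDeg G m) {A : Subgroup G}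
    (hA : ∀ a ∈ A, ∀ b ∈ A, a * b = b * a) (hlt : A.index < m) :
    ∀ a b : G, a * b = b * a := by
  refine comm_iff_forall_linear.mpr fun χ => ?_
  obtain ⟨d, hd, hd0, hle⟩ := degree_le_index hA χ.2
  rcases h χ χ.2 with h1 | h1
  · exact h1
  · rw [hd, Nat.cast_inj] at h1
    omega

/-- A degree divides the index of a normal abelian subgroup. -/
theorem exists_degree_dvd_index {A : Subgroup G} [A.Normal]
    (hA : ∀ a ∈ A, ∀ b ∈ A, a * b = b * a) {χ : G → ℂ} (hχ : Cfsg.IsIrrCharacter G χ) :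
    ∃ d : ℕ, χ 1 = d ∧ d ∣ A.index := by
  classical
  cases nonempty_fintype G
  obtain ⟨d, hd, hd'⟩ := IsIrrCharacter.apply_one_eq hχ
  have hres : Cfsg.IsCharacter A (fun a : A => χ a) :=
    IsCharacter.restrict (IsIrrCharacter.isCharacter hχ) A
  obtain ⟨lam, hlam, hne⟩ := IsCharacter.exists_constituent hres (fun h0 => by
    have h1 := congrFun h0 1
    simp only [Subgroup.coe_one, Pi.zero_apply, hd', Nat.cast_eq_zero] at h1
    omega)
  obtain ⟨-, h2⟩ := Cfsg.Agent.S0887.result A χ hχ lam hlam hne d 1 hd' (by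
    rw [Nat.cast_one]
    exact apply_one_eq_one_of_comm (fun a b => Subtype.ext (hA a a.2 b b.2)) hlam)
  exact ⟨d, hd', by rwa [Nat.div_one] at h2⟩

/-- The square of a degree is at most the index of the centre. -/
theorem exists_degree_sq_le_center {χ : G → ℂ} (hχ : Cfsg.IsIrrCharacter G χ) :
    ∃ d : ℕ, χ 1 = d ∧ d ^ 2 ≤ (Subgroup.center G).index := by
  cases nonempty_fintype G
  refine CoherenceKernel.degree_sq_le (Subgroup.center G) ⊥ (fun x hx y => ?_) hχ ?_
  · rw [Subgroup.mem_bot, ← Subgroup.mem_center_iff.mp hx y, mul_inv_cancel_right, mul_inv_cancel]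
  · intro b hb
    rw [Subgroup.mem_bot.mp hb]

/-- A group of prime power order whose degrees are `1` or `m` is abelian when `m` is no power of
that prime. -/
theorem TwoDeg.comm_of_not_prime_pow {m p : ℕ} (h : TwoDeg G m) (hp : p.Prime) {k : ℕ}
    (hcard : Nat.card G = p ^ k) {q : ℕ} (hq : q.Prime) (hqp : q ≠ p) (hqm : q ∣ m) :
    ∀ a b : G, a * b = b * a := by
  classical
  cases nonempty_fintype G
  refine comm_iff_forall_linear.mpr fun χ => ?_
  rcases h χ χ.2 with h1 | h1
  · exact h1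
  · exfalso
    have hd : m ∣ Nat.card G := by
      obtain ⟨d, hd, hdd⟩ := exists_degree_dvd_index (A := (⊥ : Subgroup G))
        (by rintro a ha b hb; rw [Subgroup.mem_bot.mp ha, Subgroup.mem_bot.mp hb]) χ.2
      rw [h1, Nat.cast_inj] at hd
      rwa [Subgroup.index_bot, ← hd] at hdd
    rw [hcard] at hd
    exact hqp ((Nat.prime_dvd_prime_iff_eq hq hp).1 (hq.dvd_of_dvd_pow (hqm.trans hd)))

end CfsgLib.Char.TwoDegrees
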