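import Cfsg.Agent.Lib.Char.TwoDegrees.Main

/-!
# Isaacs, Theorem 12.11: degrees `1` and `p`
-/

set_option autoImplicit false

open scoped commutatorElement

namespace CfsgLib.Char.TwoDegrees

universe u

variable {G : Type u} [Group G] [Finite G]

/-- With degrees `1` and `p`, a class of a normal subgroup of index `p` moved by the group is a
whole coset of the derived subgroup. -/
theorem isConj_mul_of_moved {p : ℕ} (hp : p.Prime) (h : TwoDeg G p) (M : Subgroup G) [M.Normal]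
    (hM : M.index = p) {g : G} {a : M} (hmove : ¬ IsConj a (MulAut.conjNormal g a))
    {t : M} (ht : t ∈ commutator M) : IsConj a (a * t) := by
  classical
  cases nonempty_fintype G
  -- nonlinear characters of `M` are invariant
  have hinv : ∀ ψ : M → ℂ, Cfsg.IsIrrCharacter M ψ → ψ 1 ≠ 1 →
      ∀ n : M, ψ (MulAut.conjNormal g n) = ψ n := by
    intro ψ hψ hψ1 n
    have hle : M ≤ stab ψ := le_stab (IsIrrCharacter.isClassFunction hψ)
    have hdvd : (stab ψ).index ∣ p := hM ▸ Subgroup.index_dvd_of_le hle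
    rcases (Nat.dvd_prime hp).mp hdvd with e | e
    · have hg : g ∈ stab ψ := by rw [Subgroup.index_eq_one.mp e]; trivial
      exact congrFun (mem_stab.mp hg) n
    · exfalso
      have hT : IsInertia ψ M := by
        intro x
        rw [← isInertia_stab ψ x]
        have hr := Subgroup.relIndex_mul_index hle
        rw [hM, e] at hr
        have h1 : M.relIndex (stab ψ) = 1 :=
          Nat.eq_of_mul_eq_mul_right hp.pos (hr.trans (one_mul p).symm)
        exact ⟨fun hx => hle hx, fun hx => Subgroup.relIndex_eq_one.mp h1 hx⟩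
      have hres : resLe (le_refl M) ψ = ψ := rfl
      obtain ⟨hirr, -⟩ := indFun_inertia (le_refl M) hψ hT hψ (by
        rw [hres, classInner_irr_self hψ]; exact one_ne_zero)
      obtain ⟨d, hd0, hd⟩ := IsIrrCharacter.apply_one_eq hψ
      have hI : Cfsg.indFun M ψ 1 = ((p * d : ℕ) : ℂ) := by
        rw [indFun_one, hM, hd, Nat.cast_mul]
      rcases h _ hirr with e1 | e1
      · rw [hI, Nat.cast_eq_one] at e1
        exact hp.ne_one (mul_eq_one.mp e1).1
      · rw [hI, Nat.cast_inj] at e1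
        exact hψ1 (by rw [hd, Nat.eq_of_mul_eq_mul_left hp.pos (e1.trans (mul_one p).symm),
          Nat.cast_one])
  set σ : M ≃* M := MulAut.conjNormal g with hσ
  let f : M → ℂ := fun n => (if IsConj (σ a) n then 1 else 0) - (if IsConj a n then 1 else 0)
  have hcl : Cfsg.IsClassFunction M f := by
    intro n k
    have e : ∀ x : M, IsConj x (k * n * k⁻¹) ↔ IsConj x n := fun x =>
      ⟨fun hx => hx.trans (isConj_iff.mpr ⟨k, rfl⟩).symm,
        fun hx => hx.trans (isConj_iff.mpr ⟨k, rfl⟩)⟩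
    simp only [f, e]
  have horth : ∀ ψ : Cfsg.IrrCharacter M, (ψ : M → ℂ) 1 ≠ 1 →
      Cfsg.classInner f (ψ : M → ℂ) = 0 := by
    intro ψ hψ1
    simp only [Cfsg.classInner, f, sub_mul, Finset.sum_sub_distrib]
    refine mul_eq_zero_of_right _ (sub_eq_zero.mpr ?_)
    refine (Fintype.sum_equiv σ.toEquiv _ _ fun n => ?_).symm
    have e : IsConj (σ a) (σ n) ↔ IsConj a n := by
      refine ⟨fun hx => ?_, fun hx => σ.toMonoidHom.map_isConj hx⟩
      have := σ.symm.toMonoidHom.map_isConj hx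
      simpa using this
    simp only [MulEquiv.toEquiv_eq_coe, EquivLike.coe_coe, e]
    rw [hσ, hinv _ ψ.2 hψ1 n]
  have hfa : f (a * t) = f a := by
    rw [IsClassFunction.eq_sum_irr hcl, Finset.sum_apply, Finset.sum_apply]
    refine Finset.sum_congr rfl fun ψ _ => ?_
    by_cases hψ1 : (ψ : M → ℂ) 1 = 1
    · obtain ⟨l, hl⟩ := exists_hom_of_apply_one_eq_one (IsIrrCharacter.isCharacter ψ.2) hψ1
      rw [Pi.smul_apply, Pi.smul_apply, hl]
      simp only [map_mul, MonoidHom.mem_ker.mp (Abelianization.commutator_subset_ker l ht),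
        mul_one]
    · rw [Pi.smul_apply, Pi.smul_apply, horth ψ hψ1, zero_smul, zero_smul]
  by_contra hne
  simp only [f, if_neg hne, if_pos (IsConj.refl a), if_neg (fun hx : IsConj (σ a) a => hmove hx.symm),
    sub_zero, zero_sub] at hfa
  split_ifs at hfa <;> norm_num at hfa

section Second

variable (m : G) (hz : ∀ g : G, g * m * g⁻¹ * m⁻¹ ∈ Subgroup.center G)

/-- The commutator map of an element of the second centre. -/
def cm : G →* G :=
  MonoidHom.mk' (fun g => g * m * g⁻¹ * m⁻¹) fun a b => by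
    have hc := Subgroup.mem_center_iff.mp (hz b) a
    calc a * b * m * (a * b)⁻¹ * m⁻¹ = a * (b * m * b⁻¹ * m⁻¹) * (m * a⁻¹ * m⁻¹) := by group
      _ = b * m * b⁻¹ * m⁻¹ * a * (m * a⁻¹ * m⁻¹) := by rw [hc]
      _ = b * m * b⁻¹ * m⁻¹ * (a * m * a⁻¹ * m⁻¹) := by group
      _ = a * m * a⁻¹ * m⁻¹ * (b * m * b⁻¹ * m⁻¹) :=
        (Subgroup.mem_center_iff.mp (hz b) _).symm

theorem cm_apply (g : G) : cm m hz g = g * m * g⁻¹ * m⁻¹ := rfl

theorem mem_ker_cm {g : G} : g ∈ (cm m hz).ker ↔ g * m = m * g := by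
  rw [MonoidHom.mem_ker, cm_apply, mul_inv_eq_one, mul_inv_eq_iff_eq_mul]

theorem cm_mem_center (g : G) : cm m hz g ∈ Subgroup.center G := hz g

theorem self_mem_ker : m ∈ (cm m hz).ker := (mem_ker_cm m hz).mpr rfl

theorem cm_pow_eq_one {p : ℕ} (hmp : m ^ p ∈ Subgroup.center G) (g : G) : cm m hz g ^ p = 1 := by
  have hc : Commute (cm m hz g) m := (Subgroup.mem_center_iff.mp (cm_mem_center m hz g) m).symm
  have e : g * m * g⁻¹ = cm m hz g * m := by rw [cm_apply, inv_mul_cancel_right]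
  have h1 : (g * m * g⁻¹) ^ p = m ^ p := by
    rw [conj_pow, Subgroup.mem_center_iff.mp hmp g, mul_inv_cancel_right]
  rw [e, hc.mul_pow] at h1
  exact mul_eq_right.mp h1

variable {p : ℕ} (hp : p.Prime) (h : TwoDeg G p)

include hp h in
theorem commutator_le_map (M : Subgroup G) [hMn : M.Normal] (hM : M.index = p)
    (hC : (cm m hz).ker ≤ M) : ⁅M, M⁆ ≤ M.map (cm m hz) := by
  classical
  have hne : M ≠ ⊤ := fun e => hp.ne_one (by rw [← hM, e, Subgroup.index_top])
  obtain ⟨g, -, hg⟩ := SetLike.exists_of_lt (lt_top_iff_ne_top.mpr hne)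
  set a : M := ⟨m, hC (self_mem_ker m hz)⟩
  have hmove : ¬ IsConj a (MulAut.conjNormal g a) := fun hc => by
    obtain ⟨k, hk⟩ := isConj_iff.mp hc
    have hk' : (k : G) * m * (k : G)⁻¹ = g * m * g⁻¹ := congrArg Subtype.val hk
    refine hg ?_
    have h1 : (k : G)⁻¹ * g ∈ (cm m hz).ker := by
      rw [MonoidHom.mem_ker, map_mul, map_inv, inv_mul_eq_one, cm_apply, cm_apply, hk']
    have := M.mul_mem k.2 (hC h1)
    rwa [mul_inv_cancel_left] at this
  intro x hx
  have hx' : x ∈ (commutator M).map M.subtype := by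
    rw [map_commutator_eq, Subgroup.range_subtype]; exact hx
  obtain ⟨t, ht, rfl⟩ := hx'
  obtain ⟨k, hk⟩ := isConj_iff.mp (isConj_mul_of_moved hp h M hM hmove ht)
  refine ⟨k, k.2, ?_⟩
  have hk' : (k : G) * m * (k : G)⁻¹ = m * (t : G) := congrArg Subtype.val hk
  have h1 : (k : G) * m * (k : G)⁻¹ = cm m hz k * m := by rw [cm_apply, inv_mul_cancel_right]
  have h2 : cm m hz k * m = m * cm m hz k :=
    (Subgroup.mem_center_iff.mp (cm_mem_center m hz k) m).symm
  exact mul_left_cancel (h2.symm.trans (h1.symm.trans hk'))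

theorem ker_ne_top (hm : m ∉ Subgroup.center G) : (cm m hz).ker ≠ ⊤ := fun e => hm <| by
  refine Subgroup.mem_center_iff.mpr fun g => (mem_ker_cm m hz).mp ?_
  rw [e]; trivial

theorem pow_mem_ker (hmp : m ^ p ∈ Subgroup.center G) (g : G) : g ^ p ∈ (cm m hz).ker := by
  rw [MonoidHom.mem_ker, map_pow, cm_pow_eq_one m hz hmp g]

theorem normal_of_ker_le {S : Subgroup G} (hS : (cm m hz).ker ≤ S) : S.Normal := by
  refine ⟨fun x hx g => ?_⟩
  have h1 : g * x * g⁻¹ * x⁻¹ ∈ S := hS <| by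
    rw [MonoidHom.mem_ker, map_mul, map_mul, map_mul, map_inv, map_inv,
      Subgroup.mem_center_iff.mp (cm_mem_center m hz x) (cm m hz g), mul_inv_cancel_right,
      mul_inv_cancel]
  have := S.mul_mem h1 hx
  rwa [inv_mul_cancel_right] at this

include hp in
/-- A subgroup over the kernel lies in one of index `p` avoiding a given outside element. -/
theorem exists_index_p (hmp : m ^ p ∈ Subgroup.center G) {S : Subgroup G}
    (hS : (cm m hz).ker ≤ S) {y : G} (hy : y ∉ S) :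
    ∃ M : Subgroup G, M.Normal ∧ M.index = p ∧ S ≤ M ∧ y ∉ M := by
  classical
  obtain ⟨M, hM⟩ := (Set.toFinite {M : Subgroup G | S ≤ M ∧ y ∉ M}).exists_maximal
    ⟨S, le_rfl, hy⟩
  obtain ⟨hSM, hyM⟩ := hM.prop
  haveI := normal_of_ker_le m hz (hS.trans hSM)
  refine ⟨M, this, ?_, hSM, hyM⟩
  haveI : Fact p.Prime := ⟨hp⟩
  have hyp : (y : G ⧸ M) ^ p = 1 := by
    rw [← QuotientGroup.mk_pow, QuotientGroup.eq_one_iff]
    exact hSM (hS (pow_mem_ker m hz hmp y))
  have hord : orderOf (y : G ⧸ M) = p :=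
    orderOf_eq_prime hyp fun e => hyM ((QuotientGroup.eq_one_iff y).mp e)
  have htop : ∀ q : G ⧸ M, q ∈ Subgroup.zpowers (y : G ⧸ M) := by
    intro q
    obtain ⟨g, rfl⟩ := QuotientGroup.mk_surjective q
    by_cases hgM : g ∈ M
    · rw [(QuotientGroup.eq_one_iff g).mpr hgM]; exact one_mem _
    have hyK : y ∈ (Subgroup.zpowers (g : G ⧸ M)).comap (QuotientGroup.mk' M) := by
      by_contra hyK
      have hle : M ≤ (Subgroup.zpowers (g : G ⧸ M)).comap (QuotientGroup.mk' M) := fun x hx => by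
        rw [Subgroup.mem_comap, QuotientGroup.mk'_apply, (QuotientGroup.eq_one_iff x).mpr hx]
        exact one_mem _
      have h1 := hM.le_of_ge ⟨hSM.trans hle, hyK⟩ hle
      exact hgM (h1 (Subgroup.mem_comap.mpr (Subgroup.mem_zpowers (g : G ⧸ M))))
    have hgp : orderOf (g : G ⧸ M) = p := orderOf_eq_prime (by
        rw [← QuotientGroup.mk_pow, QuotientGroup.eq_one_iff]
        exact hSM (hS (pow_mem_ker m hz hmp g)))
      fun e => hgM ((QuotientGroup.eq_one_iff g).mp e)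
    have hle : Subgroup.zpowers (y : G ⧸ M) ≤ Subgroup.zpowers (g : G ⧸ M) :=
      Subgroup.zpowers_le.mpr hyK
    have heq : Subgroup.zpowers (y : G ⧸ M) = Subgroup.zpowers (g : G ⧸ M) :=
      Subgroup.eq_of_le_of_card_ge hle (by rw [Nat.card_zpowers, Nat.card_zpowers, hord, hgp])
    rw [heq]
    exact Subgroup.mem_zpowers _
  rw [Subgroup.index, ← hord, orderOf_eq_card_of_forall_mem_zpowers htop]

variable (hmp : m ^ p ∈ Subgroup.center G) (hm : m ∉ Subgroup.center G)
  (hno : ¬ ∃ A : Subgroup G, A.Normal ∧ (∀ a ∈ A, ∀ b ∈ A, a * b = b * a) ∧ A.index = p)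

include hp h hno in
/-- The centraliser does not have index `p`. -/
theorem index_ker_ne : (cm m hz).ker.index ≠ p := by
  intro he
  haveI : (cm m hz).ker.Normal := (cm m hz).normal_ker
  refine hno ⟨_, inferInstance, fun a ha b hb => ?_, he⟩
  have h1 := commutator_le_map m hz hp h _ he le_rfl
    (Subgroup.commutator_mem_commutator ha hb)
  obtain ⟨k, hk, hk'⟩ := h1
  rw [MonoidHom.mem_ker.mp hk, eq_comm, commutatorElement_eq_one_iff_mul_comm] at hk'
  exact hk'

include hp h hmp in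
/-- A commutator in a proper subgroup over the kernel is a commutator with `m`. -/
theorem commutator_mem_map {S : Subgroup G} (hS : (cm m hz).ker ≤ S) (hne : S ≠ ⊤) {a b : G}
    (ha : a ∈ S) (hb : b ∈ S) : ⁅a, b⁆ ∈ S.map (cm m hz) := by
  obtain ⟨y₀, -, hy₀⟩ := SetLike.exists_of_lt (lt_top_iff_ne_top.mpr hne)
  obtain ⟨M, hMn, hMi, hSM, -⟩ := exists_index_p m hz hp hmp hS hy₀
  obtain ⟨y, -, hy⟩ := commutator_le_map m hz hp h M hMi (hS.trans hSM)
    (Subgroup.commutator_mem_commutator (hSM ha) (hSM hb))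
  refine ⟨y, ?_, hy⟩
  by_contra hyS
  obtain ⟨N, hNn, hNi, hSN, hyN⟩ := exists_index_p m hz hp hmp hS (y := y) hyS
  obtain ⟨z, hzN, hz'⟩ := commutator_le_map m hz hp h N hNi (hS.trans hSN)
    (Subgroup.commutator_mem_commutator (hSN ha) (hSN hb))
  have h1 : z⁻¹ * y ∈ N := hS.trans hSN (by
    rw [MonoidHom.mem_ker, map_mul, map_inv, inv_mul_eq_one, hy, hz'])
  have := N.mul_mem hzN h1
  rw [mul_inv_cancel_left] at this
  exact hyN this

include hp hmp hm in
theorem index_ker_eq : ∃ k, 1 ≤ k ∧ (cm m hz).ker.index = p ^ k := by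
  haveI : Fact p.Prime := ⟨hp⟩
  have hW : IsPGroup p (cm m hz).range := by
    intro w
    obtain ⟨w, g, rfl⟩ := w
    exact ⟨1, Subtype.ext (by rw [pow_one]; exact cm_pow_eq_one m hz hmp g)⟩
  obtain ⟨k, hk⟩ := IsPGroup.iff_card.mp hW
  rw [← Subgroup.index_ker] at hk
  refine ⟨k, ?_, hk⟩
  by_contra h0
  rw [not_le, Nat.lt_one_iff] at h0
  rw [h0, pow_zero, Subgroup.index_eq_one] at hk
  exact ker_ne_top m hz hm hk

include hp h hmp hm hno in
theorem sq_dvd_index : p ^ 2 ∣ (cm m hz).ker.index := by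
  obtain ⟨k, hk, hk'⟩ := index_ker_eq m hz hp hmp hm
  rw [hk']
  refine Nat.pow_dvd_pow p (?_ : 2 ≤ k)
  by_contra hlt
  exact index_ker_ne m hz hp h hno (by rw [hk', show k = 1 by omega, pow_one])

/-- Adjoining one element to the kernel. -/
theorem mem_sup_zpowers {a x : G} (hx : x ∈ (cm m hz).ker ⊔ Subgroup.zpowers a) :
    ∃ i : ℤ, cm m hz x = cm m hz a ^ i := by
  have hle : (cm m hz).ker ⊔ Subgroup.zpowers a ≤
      (Subgroup.zpowers (cm m hz a)).comap (cm m hz) :=
    sup_le (fun k hk => by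
      rw [Subgroup.mem_comap, MonoidHom.mem_ker.mp hk]; exact one_mem _)
      (Subgroup.zpowers_le.mpr (Subgroup.mem_zpowers _))
  obtain ⟨i, hi⟩ := Subgroup.mem_zpowers_iff.mp (hle hx)
  exact ⟨i, hi.symm⟩

include hp h hmp hm hno in
theorem exists_zpow {c : G} (hc : c ∈ (cm m hz).ker) (a : G) :
    ∃ i : ℤ, a * c * a⁻¹ * c⁻¹ = cm m hz a ^ i := by
  set S := (cm m hz).ker ⊔ Subgroup.zpowers a with hS
  have hne : S ≠ ⊤ := by
    intro e
    have h1 : (cm m hz).range ≤ Subgroup.zpowers (cm m hz a) := by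
      rintro _ ⟨x, rfl⟩
      obtain ⟨i, hi⟩ := mem_sup_zpowers m hz (show x ∈ S by rw [e]; trivial)
      exact hi ▸ Subgroup.zpow_mem _ (Subgroup.mem_zpowers _) i
    have h2 := Subgroup.card_le_of_le h1
    rw [← Subgroup.index_ker, Nat.card_zpowers] at h2
    have h3 : orderOf (cm m hz a) ≤ p :=
      orderOf_le_of_pow_eq_one hp.pos (cm_pow_eq_one m hz hmp a)
    have h4 := Nat.le_of_dvd (Nat.pos_of_ne_zero Subgroup.index_ne_zero_of_finite)
      (sq_dvd_index m hz hp h hmp hm hno)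
    have : p < p ^ 2 := by
      calc p = p ^ 1 := (pow_one p).symm
        _ < p ^ 2 := Nat.pow_lt_pow_right hp.one_lt (by norm_num)
    omega
  obtain ⟨y, hy, hy'⟩ := commutator_mem_map m hz hp h hmp le_sup_left hne
    (a := a) (b := c) (Subgroup.mem_sup_right (Subgroup.mem_zpowers a)) (Subgroup.mem_sup_left hc)
  obtain ⟨i, hi⟩ := mem_sup_zpowers m hz hy
  exact ⟨i, by rw [← hi, hy', commutatorElement_def]⟩

include hp h hmp hm hno in
/-- The centraliser is generated by the centre and the element itself. -/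
theorem exists_mul_zpow {c : G} (hc : c ∈ (cm m hz).ker) :
    ∃ i : ℤ, c * (m ^ i)⁻¹ ∈ Subgroup.center G := by
  haveI : Fact p.Prime := ⟨hp⟩
  obtain ⟨a₀, -, ha₀⟩ := SetLike.exists_of_lt (lt_top_iff_ne_top.mpr (ker_ne_top m hz hm))
  obtain ⟨i₀, hi₀⟩ := exists_zpow m hz hp h hmp hm hno hc a₀
  refine ⟨i₀, ?_⟩
  set c' := c * (m ^ i₀)⁻¹ with hc'
  have hc'k : c' ∈ (cm m hz).ker :=
    (cm m hz).ker.mul_mem hc (inv_mem ((cm m hz).ker.zpow_mem (self_mem_ker m hz) i₀))
  have hc'z : ∀ g, g * c' * g⁻¹ * c'⁻¹ ∈ Subgroup.center G := fun g => by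
    obtain ⟨i, hi⟩ := exists_zpow m hz hp h hmp hm hno hc'k g
    rw [hi]
    exact Subgroup.zpow_mem _ (cm_mem_center m hz g) i
  have hexp : ∀ g, ∃ i : ℤ, cm c' hc'z g = cm m hz g ^ i := fun g =>
    exists_zpow m hz hp h hmp hm hno hc'k g
  have hconj : ∀ (g : G) (i : ℤ), g * m ^ i * g⁻¹ = cm m hz g ^ i * m ^ i := fun g i => by
    have hcc : Commute (cm m hz g) m := (Subgroup.mem_center_iff.mp (cm_mem_center m hz g) m).symm
    rw [← conj_zpow, ← hcc.mul_zpow]
    congr 1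
    rw [cm_apply, inv_mul_cancel_right]
  have h0 : cm c' hc'z a₀ = 1 := by
    have e1 : a₀ * c * a₀⁻¹ = cm m hz a₀ ^ i₀ * c := by rw [← hi₀, inv_mul_cancel_right]
    rw [cm_apply, mul_inv_eq_one]
    calc a₀ * c' * a₀⁻¹ = a₀ * c * a₀⁻¹ * (a₀ * m ^ i₀ * a₀⁻¹)⁻¹ := by rw [hc']; group
      _ = cm m hz a₀ ^ i₀ * (c * (m ^ i₀)⁻¹) * (cm m hz a₀ ^ i₀)⁻¹ := by
        rw [e1, hconj]; group
      _ = c * (m ^ i₀)⁻¹ := by
        rw [← Subgroup.mem_center_iff.mp
          (Subgroup.zpow_mem _ (cm_mem_center m hz a₀) i₀) (c * (m ^ i₀)⁻¹), mul_inv_cancel_right]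
      _ = c' := rfl
  have hker : ∀ x ∈ (cm m hz).ker, cm c' hc'z x = 1 := fun x hx => by
    obtain ⟨i, hi⟩ := hexp x
    rw [hi, MonoidHom.mem_ker.mp hx, one_zpow]
  have hA : cm m hz a₀ ≠ 1 := fun e => ha₀ (MonoidHom.mem_ker.mpr e)
  have hAord : orderOf (cm m hz a₀) = p := orderOf_eq_prime (cm_pow_eq_one m hz hmp a₀) hA
  refine Subgroup.mem_center_iff.mpr fun b => (mem_ker_cm c' hc'z).mp ?_
  rw [MonoidHom.mem_ker]
  by_cases hb : cm m hz b ∈ Subgroup.zpowers (cm m hz a₀)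
  · obtain ⟨k, hk⟩ := Subgroup.mem_zpowers_iff.mp hb
    have h1 : (a₀ ^ k)⁻¹ * b ∈ (cm m hz).ker := by
      rw [MonoidHom.mem_ker, map_mul, map_inv, map_zpow, hk, inv_mul_cancel]
    have h2 := hker _ h1
    rwa [map_mul, map_inv, map_zpow, h0, one_zpow, inv_one, one_mul] at h2
  · obtain ⟨j, hj⟩ := hexp b
    obtain ⟨l, hl⟩ := hexp (a₀ * b)
    rw [map_mul, h0, one_mul, hj, map_mul,
      Commute.mul_zpow (Subgroup.mem_center_iff.mp (cm_mem_center m hz b) _)] at hl
    have h3 : cm m hz a₀ ^ l = cm m hz b ^ (j - l) := by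
      rw [zpow_sub, hl, mul_inv_cancel_right]
    have hbord : orderOf (cm m hz b) = p := orderOf_eq_prime (cm_pow_eq_one m hz hmp b)
      fun e => hb (e ▸ one_mem _)
    rw [hj]
    by_contra hjne
    have hl0 : ((p : ℤ) ∣ l) := by
      by_contra hl1
      refine hb ?_
      have hmem : cm m hz b ^ (j - l) ∈ Subgroup.zpowers (cm m hz a₀) := h3 ▸
        Subgroup.zpow_mem _ (Subgroup.mem_zpowers _) l
      have hne1 : cm m hz b ^ (j - l) ≠ 1 := fun hd => by
        rw [hd, ← orderOf_dvd_iff_zpow_eq_one, hAord] at h3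
        exact hl1 h3
      have ho : orderOf (cm m hz b ^ (j - l)) = p := orderOf_eq_prime (by
        rw [← map_zpow]; exact cm_pow_eq_one m hz hmp _) hne1
      have heq : Subgroup.zpowers (cm m hz b ^ (j - l)) = Subgroup.zpowers (cm m hz b) :=
        Subgroup.eq_of_le_of_card_ge
          (Subgroup.zpowers_le.mpr (Subgroup.zpow_mem _ (Subgroup.mem_zpowers _) _))
          (by rw [Nat.card_zpowers, Nat.card_zpowers, ho, hbord])
      have hle := Subgroup.zpowers_le.mpr hmem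
      rw [heq] at hle
      exact hle (Subgroup.mem_zpowers _)
    rw [← hAord, orderOf_dvd_iff_zpow_eq_one] at hl0
    rw [hl0, one_mul] at hl
    have hld : (p : ℤ) ∣ l := by
      rw [← hAord, orderOf_dvd_iff_zpow_eq_one]; exact hl0
    rw [← hbord, orderOf_dvd_iff_zpow_eq_one, ← hl] at hld
    exact hjne hld

include hp h hmp hm hno in
theorem index_center : (Subgroup.center G).index = p * (cm m hz).ker.index := by
  haveI : Fact p.Prime := ⟨hp⟩
  have hle : Subgroup.center G ≤ (cm m hz).ker := fun z hz' =>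
    (mem_ker_cm m hz).mpr (Subgroup.mem_center_iff.mp hz' m).symm
  have hord : orderOf (m : G ⧸ Subgroup.center G) = p := orderOf_eq_prime (by
      rw [← QuotientGroup.mk_pow, QuotientGroup.eq_one_iff]; exact hmp)
    fun e => hm ((QuotientGroup.eq_one_iff m).mp e)
  have hmap : (cm m hz).ker.map (QuotientGroup.mk' (Subgroup.center G)) =
      Subgroup.zpowers (m : G ⧸ Subgroup.center G) := by
    refine le_antisymm ?_ (Subgroup.zpowers_le.mpr ⟨m, self_mem_ker m hz, rfl⟩)
    rintro _ ⟨c, hc, rfl⟩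
    obtain ⟨i, hi⟩ := exists_mul_zpow m hz hp h hmp hm hno hc
    refine Subgroup.mem_zpowers_iff.mpr ⟨i, ?_⟩
    rw [← QuotientGroup.mk_zpow]
    refine QuotientGroup.eq.mpr ?_
    have e : (m ^ i)⁻¹ * c = c * (m ^ i)⁻¹ := by
      calc (m ^ i)⁻¹ * c = (m ^ i)⁻¹ * (c * (m ^ i)⁻¹ * m ^ i) := by rw [inv_mul_cancel_right]
        _ = c * (m ^ i)⁻¹ := by
          rw [← Subgroup.mem_center_iff.mp hi (m ^ i), inv_mul_cancel_left]
    rw [e]; exact hi
  have h1 := Subgroup.card_mul_index (Subgroup.zpowers (m : G ⧸ Subgroup.center G))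
  rw [Nat.card_zpowers, hord, ← hmap, Subgroup.index_map_eq _ (QuotientGroup.mk'_surjective _)
    (by simpa using hle)] at h1
  exact h1.symm

end Second

/-- The hard half of Isaacs 12.11. -/
theorem index_center_eq_cube {p : ℕ} (hp : p.Prime) (h : TwoDeg G p)
    (hP : IsPGroup p (G ⧸ Subgroup.center G)) (hnc : ∃ a b : G, a * b ≠ b * a)
    (hno : ¬ ∃ A : Subgroup G, A.Normal ∧ (∀ a ∈ A, ∀ b ∈ A, a * b = b * a) ∧ A.index = p) :
    (Subgroup.center G).index = p ^ 3 := by
  classical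
  haveI : Fact p.Prime := ⟨hp⟩
  haveI : Nontrivial (G ⧸ Subgroup.center G) := by
    rw [QuotientGroup.nontrivial_iff]
    intro e
    obtain ⟨a, b, hab⟩ := hnc
    exact hab (Subgroup.mem_center_iff.mp (e ▸ Subgroup.mem_top b) a)
  haveI := hP.center_nontrivial
  obtain ⟨n, hn⟩ := IsPGroup.iff_card.mp (hP.to_subgroup (Subgroup.center (G ⧸ Subgroup.center G)))
  have hdvd : p ∣ Nat.card (Subgroup.center (G ⧸ Subgroup.center G)) := by
    rw [hn]
    refine dvd_pow_self p fun e => ?_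
    rw [e, pow_zero] at hn
    exact not_subsingleton _ (Nat.card_eq_one_iff_unique.mp hn).1
  obtain ⟨⟨q, hq⟩, hqo⟩ := exists_prime_orderOf_dvd_card' p hdvd
  obtain ⟨m, rfl⟩ := QuotientGroup.mk_surjective q
  rw [Subgroup.orderOf_mk] at hqo
  have hz : ∀ g : G, g * m * g⁻¹ * m⁻¹ ∈ Subgroup.center G := fun g => by
    rw [← QuotientGroup.eq_one_iff, QuotientGroup.mk_mul, QuotientGroup.mk_mul,
      QuotientGroup.mk_mul, Subgroup.mem_center_iff.mp hq, QuotientGroup.mk_inv,
      QuotientGroup.mk_inv, mul_inv_cancel_right, mul_inv_cancel]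
  have hmp : m ^ p ∈ Subgroup.center G := by
    rw [← QuotientGroup.eq_one_iff, QuotientGroup.mk_pow, ← hqo, pow_orderOf_eq_one]
  have hm : m ∉ Subgroup.center G := fun e => by
    rw [(QuotientGroup.eq_one_iff m).mpr e, orderOf_one] at hqo
    exact hp.ne_one hqo.symm
  obtain ⟨k, -, hk⟩ := index_ker_eq m hz hp hmp hm
  have hidx := index_center m hz hp h hmp hm hno
  have hsq := sq_dvd_index m hz hp h hmp hm hno
  rw [hk, Nat.pow_dvd_pow_iff_le_right hp.one_lt] at hsq
  by_contra hne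
  have hk3 : 3 ≤ k := by
    by_contra hlt
    exact hne (by rw [hidx, hk, show k = 2 by omega]; ring)
  -- class two
  have hcls : ∀ a b : G, ⁅a, b⁆ ∈ (cm m hz).range := by
    intro a b
    set S := (cm m hz).ker ⊔ (Subgroup.zpowers a ⊔ Subgroup.zpowers b) with hS
    have hne : S ≠ ⊤ := by
      intro e
      have h1 : (cm m hz).range ≤
          Subgroup.zpowers (cm m hz a) ⊔ Subgroup.zpowers (cm m hz b) := by
        rw [MonoidHom.range_eq_map, ← e, hS, Subgroup.map_sup, Subgroup.map_sup,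
          MonoidHom.map_zpowers, MonoidHom.map_zpowers,
          (Subgroup.map_eq_bot_iff _).mpr le_rfl, bot_sup_eq]
      haveI : (Subgroup.zpowers (cm m hz b)).Normal := ⟨fun x hx g => by
        obtain ⟨i, rfl⟩ := Subgroup.mem_zpowers_iff.mp hx
        rw [Subgroup.mem_center_iff.mp
          (Subgroup.zpow_mem _ (cm_mem_center m hz b) i) g, mul_inv_cancel_right]
        exact hx⟩
      have hle2 : Nat.card (cm m hz).range ≤ Nat.card
          (Subgroup.zpowers (cm m hz a) × Subgroup.zpowers (cm m hz b)) := by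
        refine le_trans (Subgroup.card_le_of_le h1) (Nat.card_le_card_of_surjective
          (fun q => (⟨(q.1 : G) * q.2, Subgroup.mul_mem_sup q.1.2 q.2.2⟩ :
            ↥(Subgroup.zpowers (cm m hz a) ⊔ Subgroup.zpowers (cm m hz b)))) fun w => ?_)
        have hw : (w : G) ∈ _ := w.2
        rw [← SetLike.mem_coe, Subgroup.mul_normal] at hw
        obtain ⟨u, hu, v, hv, huv⟩ := Set.mem_mul.mp hw
        exact ⟨(⟨u, hu⟩, ⟨v, hv⟩), Subtype.ext huv⟩
      rw [Nat.card_prod, Nat.card_zpowers, Nat.card_zpowers, ← Subgroup.index_ker, hk] at hle2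
      have ha' := orderOf_le_of_pow_eq_one hp.pos (cm_pow_eq_one m hz hmp a)
      have hb' := orderOf_le_of_pow_eq_one hp.pos (cm_pow_eq_one m hz hmp b)
      have h5 : p ^ k ≤ p ^ 2 := hle2.trans ((Nat.mul_le_mul ha' hb').trans (pow_two p).ge)
      rw [Nat.pow_le_pow_iff_right hp.one_lt] at h5
      omega
    obtain ⟨y, -, hy⟩ := commutator_mem_map m hz hp h hmp le_sup_left hne
      (Subgroup.mem_sup_right (Subgroup.mem_sup_left (Subgroup.mem_zpowers a)))
      (Subgroup.mem_sup_right (Subgroup.mem_sup_right (Subgroup.mem_zpowers b)))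
    exact ⟨y, hy⟩
  obtain ⟨y₁, -, hy₁⟩ := SetLike.exists_of_lt (lt_top_iff_ne_top.mpr (ker_ne_top m hz hm))
  obtain ⟨M, hMn, hMi, hCM, -⟩ := exists_index_p m hz hp hmp le_rfl hy₁
  haveI := hMn
  have hMne : M ≠ ⊤ := fun e => hp.ne_one (by rw [← hMi, e, Subgroup.index_top])
  obtain ⟨x, -, hx⟩ := SetLike.exists_of_lt (lt_top_iff_ne_top.mpr hMne)
  have hxo : orderOf (x : G ⧸ M) = p := orderOf_eq_prime (by
      rw [← QuotientGroup.mk_pow, QuotientGroup.eq_one_iff]
      exact hCM (pow_mem_ker m hz hmp x))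
    fun e => hx ((QuotientGroup.eq_one_iff x).mp e)
  have hdec : ∀ g : G, ∃ j : ℤ, g * (x ^ j)⁻¹ ∈ M := by
    intro g
    have htop : Subgroup.zpowers (x : G ⧸ M) = ⊤ := Subgroup.eq_top_of_card_eq _ (by
      rw [Nat.card_zpowers, hxo, ← hMi]; rfl)
    obtain ⟨j, hj⟩ := Subgroup.mem_zpowers_iff.mp
      (show (g : G ⧸ M) ∈ Subgroup.zpowers (x : G ⧸ M) by rw [htop]; trivial)
    refine ⟨j, ?_⟩
    rw [← QuotientGroup.eq_one_iff, QuotientGroup.mk_mul, QuotientGroup.mk_inv,
      QuotientGroup.mk_zpow, hj, mul_inv_cancel]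
  obtain ⟨v, hvM, hvC⟩ : ∃ v ∈ M, v ∉ (cm m hz).ker := by
    by_contra hv
    push Not at hv
    have heq : M = (cm m hz).ker := le_antisymm hv hCM
    rw [heq, hk] at hMi
    have := (Nat.pow_eq_self_iff hp.one_lt).mp hMi
    omega
  -- every element off the centre now qualifies
  obtain ⟨y, hy⟩ := hcls x v
  obtain ⟨j, hj⟩ := hdec y
  set v' := v * (m ^ j)⁻¹ with hv'
  have hv'z : ∀ g, g * v' * g⁻¹ * v'⁻¹ ∈ Subgroup.center G := fun g => by
    obtain ⟨w, hw⟩ := hcls g v'
    rw [← commutatorElement_def, ← hw]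
    exact cm_mem_center m hz w
  have hrange : ∀ g, cm v' hv'z g ∈ (cm m hz).range := fun g => by
    rw [cm_apply, ← commutatorElement_def]
    exact hcls g v'
  have hexp : ∀ g, cm v' hv'z g ^ p = 1 := fun g => by
    obtain ⟨w, hw⟩ := hrange g
    rw [← hw, cm_pow_eq_one m hz hmp w]
  have hv'p : v' ^ p ∈ Subgroup.center G := by
    refine Subgroup.mem_center_iff.mpr fun g => ?_
    have hcc : Commute (cm v' hv'z g) v' :=
      (Subgroup.mem_center_iff.mp (cm_mem_center v' hv'z g) v').symm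
    have e : g * v' * g⁻¹ = cm v' hv'z g * v' := by rw [cm_apply, inv_mul_cancel_right]
    have e2 : g * v' ^ p * g⁻¹ = v' ^ p := by rw [← conj_pow, e, hcc.mul_pow, hexp, one_mul]
    exact mul_inv_eq_iff_eq_mul.mp e2
  have hv'M : v' ∈ M := M.mul_mem hvM (inv_mem (M.zpow_mem (hCM (self_mem_ker m hz)) j))
  have hv'C : v' ∉ (cm m hz).ker := fun e => hvC <| by
    have := (cm m hz).ker.mul_mem e ((cm m hz).ker.zpow_mem (self_mem_ker m hz) j)
    rwa [hv', inv_mul_cancel_right] at this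
  have hv'Z : v' ∉ Subgroup.center G := fun e =>
    hv'C ((mem_ker_cm m hz).mpr (Subgroup.mem_center_iff.mp e m).symm)
  have hxv : cm v' hv'z x ∈ M.map (cm m hz) := by
    have hcm : Commute (cm m hz x) m := (Subgroup.mem_center_iff.mp (cm_mem_center m hz x) m).symm
    have e0 : x * m ^ j * x⁻¹ = cm m hz x ^ j * m ^ j := by
      rw [← conj_zpow, ← hcm.mul_zpow]
      congr 1
      rw [cm_apply, inv_mul_cancel_right]
    have e1 : x * v * x⁻¹ = cm m hz y * v := by
      rw [hy, commutatorElement_def, inv_mul_cancel_right]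
    have e2 : cm v' hv'z x = cm m hz (y * (x ^ j)⁻¹) := by
      have hc1 := Subgroup.mem_center_iff.mp
        (Subgroup.zpow_mem _ (cm_mem_center m hz x) j) (v * (m ^ j)⁻¹)
      rw [map_mul, map_inv, map_zpow, cm_apply v' hv'z, mul_inv_eq_iff_eq_mul]
      calc x * v' * x⁻¹ = x * v * x⁻¹ * (x * m ^ j * x⁻¹)⁻¹ := by rw [hv']; group
        _ = cm m hz y * (v * (m ^ j)⁻¹) * (cm m hz x ^ j)⁻¹ := by rw [e1, e0]; group
        _ = cm m hz y * (cm m hz x ^ j)⁻¹ * (v * (m ^ j)⁻¹) := by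
          have hc2 : Commute (v * (m ^ j)⁻¹) (cm m hz x ^ j)⁻¹ := Commute.inv_right hc1
          rw [mul_assoc, hc2.eq, ← mul_assoc]
        _ = _ := rfl
    exact ⟨_, hj, e2.symm⟩
  have hle : (cm v' hv'z).range ≤ M.map (cm m hz) := by
    rintro _ ⟨g, rfl⟩
    obtain ⟨i, hi⟩ := hdec g
    rw [← inv_mul_cancel_right g (x ^ i), map_mul, map_zpow]
    refine Subgroup.mul_mem _ ?_ (Subgroup.zpow_mem _ hxv i)
    rw [cm_apply, ← commutatorElement_def]
    exact commutator_le_map m hz hp h M hMi hCM (Subgroup.commutator_mem_commutator hi hv'M)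
  have hlt : M.map (cm m hz) < (cm m hz).range := by
    refine lt_of_le_of_ne (Subgroup.map_le_range _ _) fun e => hx ?_
    have hxr : cm m hz x ∈ M.map (cm m hz) := by rw [e]; exact ⟨x, rfl⟩
    obtain ⟨u, hu, hu'⟩ := hxr
    have h1 : u⁻¹ * x ∈ M := hCM (by
      rw [MonoidHom.mem_ker, map_mul, map_inv, hu', inv_mul_cancel])
    have := M.mul_mem hu h1
    rwa [mul_inv_cancel_left] at this
  have hcard : Nat.card (cm v' hv'z).range = Nat.card (cm m hz).range := by
    rw [← Subgroup.index_ker, ← Subgroup.index_ker]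
    have h1 := index_center v' hv'z hp h hv'p hv'Z hno
    exact (Nat.eq_of_mul_eq_mul_left hp.pos (hidx.symm.trans h1)).symm
  exact (lt_of_le_of_lt hle hlt).ne (Subgroup.eq_of_le_of_card_ge
    (hle.trans hlt.le) hcard.ge)

/-- Isaacs 12.11. -/
theorem degrees_one_prime_iff (hG : ∃ a b : G, a * b ≠ b * a) {p : ℕ} (hp : p.Prime) :
    ((∀ χ : Cfsg.IrrCharacter G, Cfsg.charDegree (χ : G → ℂ) = 1 ∨
        Cfsg.charDegree (χ : G → ℂ) = p) ∧
      ∃ χ : Cfsg.IrrCharacter G, Cfsg.charDegree (χ : G → ℂ) = p) ↔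
    ((∃ A : Subgroup G, A.Normal ∧ (∀ a ∈ A, ∀ b ∈ A, a * b = b * a) ∧ A.index = p) ∨
      (Subgroup.center G).index = p ^ 3) := by
  classical
  refine ⟨fun ⟨hcd, hm⟩ => ?_, fun hAB => ?_⟩
  · by_cases hA : ∃ A : Subgroup G, A.Normal ∧ (∀ a ∈ A, ∀ b ∈ A, a * b = b * a) ∧ A.index = p
    · exact Or.inl hA
    refine Or.inr ?_
    obtain ⟨q, e, hq, hpe, P, A, hPn, hAn, hPp, hAc, hi, hs⟩ :=
      (main hcd hm hp.ne_one).resolve_left hA
    have hqp : p = q := by
      have : q ∣ p := by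
        rw [hpe]
        refine dvd_pow_self q fun e0 => ?_
        rw [e0, pow_zero] at hpe
        exact hp.ne_one hpe
      exact ((Nat.prime_dvd_prime_iff_eq hq hp).mp this).symm
    subst hqp
    haveI := hPn
    haveI := hAn
    exact index_center_eq_cube hp (twoDeg_of_charDegree hcd)
      (isPGroup_quotient_center hPp hAc hi hs) hG hA
  · have key : ∀ χ : Cfsg.IrrCharacter G, Cfsg.charDegree (χ : G → ℂ) = 1 ∨
        Cfsg.charDegree (χ : G → ℂ) = p := by
      intro χ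
      rcases hAB with ⟨A, hAn, hAc, hAi⟩ | hZ
      · haveI := hAn
        obtain ⟨d, hd, hdd⟩ := exists_degree_dvd_index hAc χ.2
        rw [← CfsgLib.DegreeTools.deg_cast χ, Nat.cast_inj] at hd
        rw [hAi] at hdd
        rw [hd]
        exact (Nat.dvd_prime hp).mp hdd
      · obtain ⟨d, hd, hdd⟩ := exists_degree_dvd_index (A := Subgroup.center G)
          (fun a _ b hb => Subgroup.mem_center_iff.mp hb a) χ.2
        obtain ⟨d', hd', hsq⟩ := exists_degree_sq_le_center χ.2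
        rw [hd, Nat.cast_inj] at hd'
        rw [← CfsgLib.DegreeTools.deg_cast χ, Nat.cast_inj] at hd
        subst hd'
        rw [hZ] at hdd hsq
        obtain ⟨i, -, rfl⟩ := (Nat.dvd_prime_pow hp).mp hdd
        rw [← pow_mul, Nat.pow_le_pow_iff_right hp.one_lt] at hsq
        rw [hd]
        rcases Nat.lt_or_ge i 1 with h0 | h0
        · exact Or.inl (by rw [show i = 0 by omega, pow_zero])
        · exact Or.inr (by rw [show i = 1 by omega, pow_one])
    refine ⟨key, by_contra fun hne => ?_⟩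
    push Not at hne
    obtain ⟨a, b, hab⟩ := hG
    refine hab ((comm_iff_forall_linear.mpr fun χ => ?_) a b)
    rw [← CfsgLib.DegreeTools.deg_cast χ, (key χ).resolve_right (hne χ), Nat.cast_one]

end CfsgLib.Char.TwoDegrees
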