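import Cfsg.Agent.Lib.Char.TwoDegrees.Orbits
import Cfsg.Agent.S4456
import Mathlib.GroupTheory.SchurZassenhaus
import Mathlib.GroupTheory.Nilpotent

/-!
# Isaacs, Theorem 12.5: groups with degrees `1` and `m`
-/

set_option autoImplicit false

namespace CfsgLib.Char.TwoDegrees

universe u

variable {G : Type u} [Group G] [Finite G]

/-- Isaacs 12.5. -/
theorem main {m : ℕ} (hcd : ∀ χ : Cfsg.IrrCharacter G,
      Cfsg.charDegree (χ : G → ℂ) = 1 ∨ Cfsg.charDegree (χ : G → ℂ) = m)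
    (hm : ∃ χ : Cfsg.IrrCharacter G, Cfsg.charDegree (χ : G → ℂ) = m) (hm1 : m ≠ 1) :
    (∃ A : Subgroup G, A.Normal ∧ (∀ a ∈ A, ∀ b ∈ A, a * b = b * a) ∧ A.index = m) ∨
      ∃ p e : ℕ, p.Prime ∧ m = p ^ e ∧ ∃ P A : Subgroup G, P.Normal ∧ A.Normal ∧ IsPGroup p P ∧
        (∀ a ∈ A, ∀ b ∈ A, a * b = b * a) ∧ P ⊓ A = ⊥ ∧ P ⊔ A = ⊤ := by
  classical
  cases nonempty_fintype G
  have h : TwoDeg G m := twoDeg_of_charDegree hcd
  obtain ⟨χ₀, hχ₀⟩ := hm
  have hm2 : 2 ≤ m := by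
    have := CfsgLib.DegreeTools.deg_pos χ₀
    omega
  have hχ₀1 : (χ₀ : G → ℂ) 1 = (m : ℂ) := by
    rw [← CfsgLib.DegreeTools.deg_cast χ₀, hχ₀]
  have hnc : ¬ ∀ a b : G, a * b = b * a := fun hc => by
    have h1 := apply_one_eq_one_of_comm hc χ₀.2
    rw [hχ₀1, Nat.cast_eq_one] at h1
    omega
  let I := {p : ℕ // p ∈ m.primeFactors}
  have hI : ∀ p : I, (p : ℕ).Prime := fun p => (Nat.mem_primeFactors.mp p.2).1
  have hId : ∀ p : I, (p : ℕ) ∣ m := fun p => (Nat.mem_primeFactors.mp p.2).2.1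
  choose Np hNn hNcop k hk using fun p : I => Cfsg.Agent.S4456.result (G := G) p (hI p)
    (fun χ hχ => by rw [(hcd χ).resolve_left hχ]; exact hId p)
  haveI := hNn
  have hQc : ∀ p : I, Nat.card (G ⧸ Np p) = (p : ℕ) ^ k p := fun p => hk p
  let F : G →* (p : I) → G ⧸ Np p := MonoidHom.mk' (fun g p => (g : G ⧸ Np p)) fun a b => rfl
  set N := F.ker with hN
  haveI hNnorm : N.Normal := F.normal_ker
  have hNle : ∀ p : I, N ≤ Np p := fun p g hg => by
    rw [← QuotientGroup.eq_one_iff]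
    exact congrFun (MonoidHom.mem_ker.mp hg) p
  have hNm : (Nat.card N).Coprime m := by
    refine Nat.coprime_of_dvd fun q hq hqN hqm => ?_
    let p : I := ⟨q, Nat.mem_primeFactors.mpr ⟨hq, hqm, by omega⟩⟩
    exact hq.coprime_iff_not_dvd.mp (hNcop p).symm
      (hqN.trans (Subgroup.card_dvd_of_le (hNle p)))
  have hidx : N.index ∣ ∏ p : I, (p : ℕ) ^ k p := by
    rw [hN, Subgroup.index_ker, ← Finset.prod_congr rfl fun p _ => hQc p, ← Nat.card_pi]
    exact Subgroup.card_subgroup_dvd_card _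
  have hcopI : (Nat.card N).Coprime N.index :=
    Nat.Coprime.coprime_dvd_right hidx (Nat.Coprime.prod_right fun p _ =>
      (hNm.coprime_dvd_right (hId p)).pow_right _)
  -- the kernel is abelian
  have hNab : ∀ a ∈ N, ∀ b ∈ N, a * b = b * a := by
    intro a ha b hb
    refine congrArg Subtype.val (?_ : (⟨a, ha⟩ : N) * ⟨b, hb⟩ = ⟨b, hb⟩ * ⟨a, ha⟩)
    revert ha hb
    suffices hc : ∀ x y : N, x * y = y * x from fun _ _ => hc _ _
    refine comm_iff_forall_linear.mpr fun θ => ?_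
    obtain ⟨χ, hχ⟩ := CfsgLib.CharDeep.ItoMichler.exists_over N θ
    obtain ⟨d, -, hd⟩ := IsIrrCharacter.apply_one_eq θ.2
    obtain ⟨c, -, hc⟩ := IsIrrCharacter.apply_one_eq χ.2
    obtain ⟨h1, -⟩ := Cfsg.Agent.S0887.result N χ χ.2 θ θ.2 hχ c d hc hd
    have hdN : d ∣ Nat.card N := by
      obtain ⟨d', hd', hdd⟩ := exists_degree_dvd_index (G := N) (A := (⊥ : Subgroup N))
        (by rintro a ha b hb; rw [Subgroup.mem_bot.mp ha, Subgroup.mem_bot.mp hb]) θ.2
      rw [hd, Nat.cast_inj] at hd'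
      rwa [Subgroup.index_bot, ← hd'] at hdd
    have hd1 : d = 1 := by
      rcases h χ χ.2 with e | e
      · rw [hc, Nat.cast_eq_one] at e
        rwa [e, Nat.dvd_one] at h1
      · rw [hc, Nat.cast_inj] at e
        rw [e] at h1
        exact Nat.eq_one_of_dvd_coprimes hNm hdN h1
    rw [hd, hd1, Nat.cast_one]
  haveI hnilQ : Group.IsNilpotent (G ⧸ N) := by
    haveI : ∀ p : I, Group.IsNilpotent (G ⧸ Np p) := fun p => by
      haveI : Fact (p : ℕ).Prime := ⟨hI p⟩
      exact IsPGroup.isNilpotent (IsPGroup.of_card (hQc p))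
    exact Group.nilpotent_of_mulEquiv (QuotientGroup.quotientKerEquivRange F).symm
  obtain ⟨K, hK⟩ := Subgroup.exists_right_complement'_of_coprime hcopI
  let e : G ⧸ N ≃* K := hK.symm.QuotientMulEquiv
  let π : G →* G ⧸ N := QuotientGroup.mk' N
  have hker : π.ker = N := QuotientGroup.ker_mk' N
  let s : G ⧸ N →* G := K.subtype.comp e.toMonoidHom
  have hs : ∀ q, π (s q) = q := fun q => by
    show ((e q : K) : G ⧸ N) = q
    conv_rhs => rw [← e.symm_apply_apply q]
    rfl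
  have hNab' : ∀ a ∈ π.ker, ∀ b ∈ π.ker, a * b = b * a := by
    rw [hker]; exact hNab
  have hcop : (Nat.card π.ker).Coprime (Nat.card (G ⧸ N)) := by
    rw [hker, ← Subgroup.index]; exact hcopI
  by_cases hmove : ∃ l, stabH π s l ≠ ⊤
  · obtain ⟨l, hl⟩ := hmove
    exact Or.inl (exists_normal_abelian hs hNab' hm2 h hcop hnilQ hl)
  push Not at hmove
  -- the complement centralises the kernel
  have hcent : ∀ (q : G ⧸ N) (n : π.ker), s q * n = n * s q := by
    intro q n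
    have hfix : ∀ l : π.ker →* ℂˣ,
        l ⟨s q * n * (s q)⁻¹, π.normal_ker.conj_mem n n.2 _⟩ = l n := by
      intro l
      have h2 := (mem_stabH_iff hs hNab' l (s q)).mp (by rw [hmove l]; trivial) n
      exact h2
    have hsep : (⟨s q * n * (s q)⁻¹, π.normal_ker.conj_mem n n.2 _⟩ : π.ker) * n⁻¹ = 1 := by
      cases nonempty_fintype π.ker
      refine eq_one_of_forall_irr fun φ => ?_
      obtain ⟨f, hf⟩ := exists_hom_of_apply_one_eq_one (IsIrrCharacter.isCharacter φ.2)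
        (apply_one_eq_one_of_comm (fun a b => Subtype.ext (hNab' a a.2 b b.2)) φ.2)
      rw [hf]
      simp only [map_mul, map_inv, hfix f, mul_inv_cancel, map_one]
    exact mul_inv_eq_iff_eq_mul.mp (congrArg Subtype.val (mul_inv_eq_one.mp hsep))
  have hdec : ∀ g : G, g * (s (π g))⁻¹ ∈ π.ker := fun g => by
    rw [MonoidHom.mem_ker, map_mul, map_inv, hs, mul_inv_cancel]
  have hQnc : ¬ ∀ a b : G ⧸ N, a * b = b * a := by
    refine fun hc => hnc fun a b => ?_
    set x := a * (s (π a))⁻¹ with hx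
    set y := b * (s (π b))⁻¹ with hy
    have ea : a = x * s (π a) := by rw [hx, inv_mul_cancel_right]
    have eb : b = y * s (π b) := by rw [hy, inv_mul_cancel_right]
    have c1 : Commute x y := hNab' x (hdec a) y (hdec b)
    have c2 : Commute (s (π a)) y := hcent _ ⟨y, hdec b⟩
    have c3 : Commute (s (π b)) x := hcent _ ⟨x, hdec a⟩
    have c4 : Commute (s (π a)) (s (π b)) := Commute.map (hc _ _) s
    rw [ea, eb]
    exact (c1.mul_left c2).mul_right (c3.symm.mul_left c4)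
  -- a single prime
  have hone : ∀ p q : I, p = q := by
    by_contra hpq
    push Not at hpq
    obtain ⟨p₁, p₂, hne⟩ := hpq
    refine hQnc fun a b => ?_
    obtain ⟨a, rfl⟩ := QuotientGroup.mk_surjective a
    obtain ⟨b, rfl⟩ := QuotientGroup.mk_surjective b
    rw [← QuotientGroup.mk_mul, ← QuotientGroup.mk_mul, QuotientGroup.eq, hN, MonoidHom.mem_ker,
      map_mul, map_inv, inv_mul_eq_one]
    funext p
    obtain ⟨q, hqp⟩ : ∃ q : I, q ≠ p := by
      by_cases hp : p₁ = p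
      · exact ⟨p₂, fun e => hne (hp.trans e.symm)⟩
      · exact ⟨p₁, hp⟩
    exact (h.of_surjective _ (QuotientGroup.mk'_surjective (Np p))).comm_of_not_prime_pow
      (hI p) (hQc p) (hI q) (fun e => hqp (Subtype.ext e)) (hId q)
      (a : G ⧸ Np p) (b : G ⧸ Np p)
  have hne : m.primeFactors.Nonempty := Nat.nonempty_primeFactors.mpr (by omega)
  obtain ⟨p, hp⟩ := hne
  let p₀ : I := ⟨p, hp⟩
  have hpp : p.Prime := hI p₀
  haveI : Fact p.Prime := ⟨hpp⟩
  have hprod : (∏ q : I, (q : ℕ) ^ k q) = p ^ k p₀ :=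
    Fintype.prod_eq_single p₀ fun q hq => absurd (hone q p₀) hq
  rw [hprod] at hidx
  obtain ⟨j, -, hj⟩ := (Nat.dvd_prime_pow hpp).mp hidx
  refine Or.inr ⟨p, _, hpp, Nat.eq_prime_pow_of_unique_prime_dvd (by omega) fun {d} hd hdm =>
    congrArg Subtype.val (hone ⟨d, Nat.mem_primeFactors.mpr ⟨hd, hdm, by omega⟩⟩ p₀),
    s.range, π.ker, ⟨?_⟩, π.normal_ker, ?_, hNab', ?_, ?_⟩
  · rintro _ ⟨q, rfl⟩ g
    refine ⟨π g * q * (π g)⁻¹, ?_⟩
    rw [map_mul, map_mul, map_inv]
    conv_rhs => rw [← inv_mul_cancel_right g (s (π g))]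
    set w := g * (s (π g))⁻¹
    have c : Commute (s (π g) * s q * (s (π g))⁻¹) w := by
      rw [← map_inv, ← map_mul, ← map_mul]
      exact hcent _ ⟨w, hdec g⟩
    calc s (π g) * s q * (s (π g))⁻¹ = w * (s (π g) * s q * (s (π g))⁻¹) * w⁻¹ := by
          rw [← c.eq, mul_inv_cancel_right]
      _ = w * s (π g) * s q * (w * s (π g))⁻¹ := by group
  · exact IsPGroup.of_surjective (IsPGroup.of_card hj) s.rangeRestrict
      s.rangeRestrict_surjective
  · rw [eq_bot_iff]
    rintro _ ⟨⟨q, rfl⟩, hq⟩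
    have hq' : q = 1 := (hs q).symm.trans (MonoidHom.mem_ker.mp hq)
    rw [hq', map_one]
    exact Subgroup.mem_bot.mpr rfl
  · rw [eq_top_iff]
    intro g _
    rw [← inv_mul_cancel_right g (s (π g))]
    exact Subgroup.mul_mem _ (Subgroup.mem_sup_right (hdec g))
      (Subgroup.mem_sup_left ⟨π g, rfl⟩)

/-- In both 12.5(b) situations the central quotient is a `p`-group. -/
theorem isPGroup_quotient_center {p : ℕ} {P A : Subgroup G} [P.Normal] [A.Normal]
    (hP : IsPGroup p P) (hA : ∀ a ∈ A, ∀ b ∈ A, a * b = b * a) (hi : P ⊓ A = ⊥) (hs : P ⊔ A = ⊤) :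
    IsPGroup p (G ⧸ Subgroup.center G) := by
  have hAc : A ≤ Subgroup.center G := by
    intro a ha
    rw [Subgroup.mem_center_iff]
    intro g
    have hle : (⊤ : Subgroup G) ≤ Subgroup.centralizer {a} := by
      rw [← hs]
      refine sup_le (fun x hx => ?_) (fun x hx => ?_)
      · exact Subgroup.mem_centralizer_singleton_iff.mpr
          (Subgroup.commute_of_normal_of_disjoint _ _ inferInstance inferInstance
            (disjoint_iff.mpr hi) x a hx ha).eq
      · exact Subgroup.mem_centralizer_singleton_iff.mpr (hA x hx a ha)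
    exact Subgroup.mem_centralizer_singleton_iff.mp (hle (Subgroup.mem_top g))
  refine IsPGroup.of_surjective hP ((QuotientGroup.mk' _).comp P.subtype) fun q => ?_
  obtain ⟨g, rfl⟩ := QuotientGroup.mk_surjective q
  have hg : g ∈ P ⊔ A := hs ▸ Subgroup.mem_top g
  rw [← SetLike.mem_coe, Subgroup.normal_mul] at hg
  obtain ⟨x, hx, a, ha, rfl⟩ := Set.mem_mul.mp hg
  refine ⟨⟨x, hx⟩, ?_⟩
  show (x : G ⧸ Subgroup.center G) = _
  rw [QuotientGroup.mk_mul, (QuotientGroup.eq_one_iff a).mpr (hAc ha), mul_one]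

end CfsgLib.Char.TwoDegrees
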