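import Cfsg.Agent.Lib.Char.TwoDegrees.Basic

/-!
# An abelian normal kernel with a nilpotent complement when the degrees are `1` or `m`
-/

set_option autoImplicit false

namespace CfsgLib.Char.TwoDegrees

universe u

variable {G H : Type u} [Group G] [Group H] (π : G →* H) (s : H →* G)

/-- The action of the complement on the linear characters of the kernel. -/
def twist (h : H) (l : π.ker →* ℂˣ) : π.ker →* ℂˣ :=
  l.comp (MulAut.conjNormal (s h⁻¹)).toMonoidHom

theorem twist_apply (h : H) (l : π.ker →* ℂˣ) (n : π.ker) :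
    twist π s h l n = l ⟨s h⁻¹ * n * (s h⁻¹)⁻¹, π.normal_ker.conj_mem n n.2 _⟩ := rfl

theorem twist_one (l : π.ker →* ℂˣ) : twist π s 1 l = l := by
  ext n
  simp [twist_apply]

theorem twist_twist (a b : H) (l : π.ker →* ℂˣ) :
    twist π s a (twist π s b l) = twist π s (a * b) l := by
  ext n
  simp only [twist_apply]
  congr 2
  exact Subtype.ext (by simp [mul_inv_rev, mul_assoc])

theorem twist_mul (h : H) (l l' : π.ker →* ℂˣ) :
    twist π s h (l * l') = twist π s h l * twist π s h l' := rfl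

theorem twist_pow (h : H) (l : π.ker →* ℂˣ) (k : ℕ) :
    twist π s h (l ^ k) = twist π s h l ^ k := rfl

theorem twist_inv (h : H) (l : π.ker →* ℂˣ) : twist π s h l⁻¹ = (twist π s h l)⁻¹ := rfl

/-- The stabiliser of a linear character of the kernel. -/
def stabH (l : π.ker →* ℂˣ) : Subgroup H where
  carrier := {h | twist π s h l = l}
  one_mem' := twist_one π s l
  mul_mem' {a b} ha hb := by
    simp only [Set.mem_ofPred_eq] at ha hb ⊢
    rw [← twist_twist, hb, ha]
  inv_mem' {a} ha := by
    simp only [Set.mem_ofPred_eq] at ha ⊢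
    calc twist π s a⁻¹ l = twist π s a⁻¹ (twist π s a l) := by rw [ha]
      _ = l := by rw [twist_twist, inv_mul_cancel, twist_one]

theorem mem_stabH {l : π.ker →* ℂˣ} {h : H} : h ∈ stabH π s l ↔ twist π s h l = l := Iff.rfl

variable {π s}

theorem iterate_shift {L : Type*} [CommGroup L] (φ : L →* L) {μ ν : L} (h1 : φ μ = μ * ν)
    (h2 : φ ν = ν) (k : ℕ) : φ^[k] μ = μ * ν ^ k := by
  induction k with
  | zero => simp
  | succ k ih =>
    rw [Function.iterate_succ_apply', ih, map_mul, map_pow, h1, h2, mul_assoc, ← pow_succ']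

theorem shift_aux {L : Type*} [CommGroup L] {a b a' b' : L} (h : a' * b' = a * b) :
    b * b'⁻¹ = a⁻¹ * a' := by
  rw [eq_inv_mul_iff_mul_eq, ← mul_assoc, ← h, mul_inv_cancel_right]

theorem shift_aux' {L : Type*} [CommGroup L] (μ ν a c : L) :
    μ * ν * (a * c)⁻¹ = μ * a⁻¹ * (ν * c⁻¹) := by
  rw [mul_inv_rev, mul_comm c⁻¹, mul_mul_mul_comm]

theorem eq_one_of_pow {L : Type*} [CommGroup L] {ν : L} {a b : ℕ} (hab : a.Coprime b)
    (h1 : ν ^ a = 1) (h2 : ν ^ b = 1) : ν = 1 := by
  have := (pow_gcd_eq_one (a := ν)).mpr ⟨h1, h2⟩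
  rwa [Nat.Coprime.gcd_eq_one hab, pow_one] at this

/-- The action of one element as an endomorphism of the group of linear characters. -/
noncomputable def twistHom (x : H) : (π.ker →* ℂˣ) →* (π.ker →* ℂˣ) :=
  MonoidHom.mk' (twist π s x) (twist_mul π s x)

/-- Coprime action: a displacement fixed by the acting element is trivial. -/
theorem eq_one_of_fixed_shift [Finite G] [Finite H]
    (hcop : (Nat.card π.ker).Coprime (Nat.card H)) {x : H} {μ ν : π.ker →* ℂˣ}
    (h1 : twist π s x μ = μ * ν) (h2 : twist π s x ν = ν) : ν = 1 := by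
  have key : ∀ k : ℕ, (twistHom (π := π) (s := s) x)^[k] μ = twist π s (x ^ k) μ := by
    intro k
    induction k with
    | zero => rw [Function.iterate_zero, id_eq, pow_zero, twist_one]
    | succ k ih =>
      rw [Function.iterate_succ_apply', ih, pow_succ']
      exact twist_twist π s x (x ^ k) μ
  have h := iterate_shift (twistHom (π := π) (s := s) x) h1 h2 (Nat.card H)
  rw [key, pow_card_eq_one', twist_one] at h
  refine eq_one_of_pow hcop ?_ (left_eq_mul.mp h)
  ext n
  simp only [MonoidHom.pow_apply, ← map_pow, pow_card_eq_one', map_one, MonoidHom.one_apply]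

section Degrees

variable [Finite G] [Finite H] (hs : ∀ h, π (s h) = h)
  (hN : ∀ a ∈ π.ker, ∀ b ∈ π.ker, a * b = b * a)

include hs hN

theorem mem_stabH_iff (l : π.ker →* ℂˣ) (g : G) :
    π g ∈ stabH π s l ↔
      ∀ n : π.ker, l ⟨g * n * g⁻¹, π.normal_ker.conj_mem n n.2 g⟩ = l n := by
  set k : G := g * (s (π g))⁻¹ with hk
  have hkN : k ∈ π.ker := by
    rw [MonoidHom.mem_ker, hk, map_mul, map_inv, hs, mul_inv_cancel]
  have hg : g = k * s (π g) := by rw [hk, inv_mul_cancel_right]
  have hconj : ∀ n : π.ker, (⟨g * n * g⁻¹, π.normal_ker.conj_mem n n.2 g⟩ : π.ker) =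
      ⟨s (π g) * n * (s (π g))⁻¹, π.normal_ker.conj_mem n n.2 _⟩ := by
    intro n
    refine Subtype.ext ?_
    set m : G := s (π g) * n * (s (π g))⁻¹ with hm
    have hmN : m ∈ π.ker := π.normal_ker.conj_mem n n.2 _
    have hcm := hN k hkN m hmN
    show g * n * g⁻¹ = m
    rw [hg]
    calc k * s (π g) * n * (k * s (π g))⁻¹ = k * m * k⁻¹ := by rw [hm]; group
      _ = m := by rw [hcm, mul_inv_cancel_right]
  rw [← inv_mem_iff, mem_stabH, MonoidHom.ext_iff]
  refine forall_congr' fun n => ?_
  rw [hconj n, twist_apply]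
  simp only [inv_inv]

/-- Gallagher for a complemented abelian kernel: a degree of `G` over a character of the kernel. -/
theorem exists_degree_over (l : π.ker →* ℂˣ) {ψ : stabH π s l → ℂ}
    (hψ : Cfsg.IsIrrCharacter (stabH π s l) ψ) :
    ∃ χ : G → ℂ, Cfsg.IsIrrCharacter G χ ∧ χ 1 = ((stabH π s l).index : ℂ) * ψ 1 := by
  classical
  cases nonempty_fintype G
  let S := stabH π s l
  set T : Subgroup G := S.comap π with hT
  have hHT : π.ker ≤ T := fun n hn => by
    rw [hT, Subgroup.mem_comap, MonoidHom.mem_ker.mp hn]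
    exact one_mem S
  have hsN : ∀ g : G, g * (s (π g))⁻¹ ∈ π.ker := fun g => by
    rw [MonoidHom.mem_ker, map_mul, map_inv, hs, mul_inv_cancel]
  let lhat : T →* ℂˣ := MonoidHom.mk' (fun t => l ⟨(t : G) * (s (π t))⁻¹, hsN t⟩) fun a b => by
    have hfix := mem_stabH_iff hs hN l (s (π a))
    rw [hs] at hfix
    have h1 := hfix.mp a.2 ⟨(b : G) * (s (π b))⁻¹, hsN b⟩
    rw [← h1, ← map_mul]
    congr 1
    refine Subtype.ext ?_
    simp only [Subgroup.coe_mul, map_mul, mul_inv_rev]
    group
  let pr : T →* S := (π.comp T.subtype).codRestrict S fun t => t.2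
  have hpr : Function.Surjective pr := fun h =>
    ⟨⟨s h, show π (s h) ∈ S from (hs h).symm ▸ h.2⟩, Subtype.ext (hs h)⟩
  have hψ' : Cfsg.IsIrrCharacter T (fun t => (lhat t : ℂ) * ψ (pr t)) := by
    have h1 : Cfsg.IsIrrCharacter T (ψ ∘ pr) := IsIrrCharacter.comp_surjective hψ pr hpr
    refine IsCharacter.isIrrCharacter_of_norm_one
      (IsCharacter.mul (isCharacter_hom lhat) (IsIrrCharacter.isCharacter h1)) ?_
    rw [← classInner_irr_self h1]
    simp only [Cfsg.classInner]
    congr 1
    refine Finset.sum_congr rfl fun t _ => ?_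
    have h : (lhat t : ℂ) * starRingEnd ℂ (lhat t : ℂ) = 1 := by
      have h2 := IsCharacter.apply_inv (isCharacter_hom lhat) t
      rw [← h2, ← Units.val_mul, ← map_mul, mul_inv_cancel, map_one, Units.val_one]
    simp only [Pi.mul_apply, Function.comp_apply, map_mul]
    linear_combination (ψ (pr t) * starRingEnd ℂ (ψ (pr t))) * h
  set θ : π.ker → ℂ := fun n => (l n : ℂ) with hθ
  have hinert : IsInertia θ T := by
    intro g
    rw [hT, Subgroup.mem_comap, mem_stabH_iff hs hN]
    simp only [hθ, Units.val_inj]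
  have hres : resLe hHT (fun t : T => (lhat t : ℂ) * ψ (pr t)) = fun n => ψ 1 * θ n := by
    funext n
    have h1 : pr ⟨n, hHT n.2⟩ = 1 := Subtype.ext (MonoidHom.mem_ker.mp n.2)
    show (lhat ⟨n, hHT n.2⟩ : ℂ) * ψ (pr ⟨n, hHT n.2⟩) = _
    rw [h1, mul_comm]
    congr 2
    show l _ = l n
    congr 1
    refine Subtype.ext ?_
    show (n : G) * (s (π n))⁻¹ = n
    rw [MonoidHom.mem_ker.mp n.2, map_one, inv_one, mul_one]
  have hc : Cfsg.classInner (resLe hHT fun t : T => (lhat t : ℂ) * ψ (pr t)) θ ≠ 0 := by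
    rw [hres, show (fun n => ψ 1 * θ n) = ψ 1 • θ from rfl, classInner_smul_left, hθ,
      classInner_irr_self (isIrrCharacter_hom l), mul_one]
    exact IsIrrCharacter.apply_one_ne_zero hψ
  obtain ⟨hirr, -⟩ := indFun_inertia hHT (isIrrCharacter_hom l) hinert hψ' hc
  refine ⟨_, hirr, ?_⟩
  rw [indFun_one, map_one, Units.val_one, one_mul, map_one]
  congr 2
  exact Subgroup.index_comap_of_surjective _ fun h => ⟨s h, hs h⟩

theorem stabH_cases {m : ℕ} (hm : 0 < m) (h : TwoDeg G m) (l : π.ker →* ℂˣ) :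
    stabH π s l = ⊤ ∨ ((stabH π s l).index = m ∧
      ∀ a ∈ stabH π s l, ∀ b ∈ stabH π s l, a * b = b * a) := by
  classical
  by_cases htop : stabH π s l = ⊤
  · exact Or.inl htop
  have hi : (stabH π s l).index ≠ 1 := fun hh => htop (Subgroup.index_eq_one.mp hh)
  have hidx : (stabH π s l).index = m := by
    obtain ⟨χ, hχ, hd⟩ := exists_degree_over hs hN l (ψ := fun _ => 1) isIrrCharacter_one
    rw [mul_one] at hd
    rcases h χ hχ with h1 | h1
    · rw [hd, Nat.cast_eq_one] at h1
      exact absurd h1 hi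
    · rw [hd, Nat.cast_inj] at h1
      exact h1
  refine Or.inr ⟨hidx, fun a ha b hb => ?_⟩
  suffices hc : ∀ x y : stabH π s l, x * y = y * x from
    congrArg Subtype.val (hc ⟨a, ha⟩ ⟨b, hb⟩)
  refine comm_iff_forall_linear.mpr fun ψ => ?_
  obtain ⟨χ, hχ, hd⟩ := exists_degree_over hs hN l ψ.2
  obtain ⟨d, hd0, hd'⟩ := IsIrrCharacter.apply_one_eq ψ.2
  rw [hidx, hd', ← Nat.cast_mul] at hd
  rcases h χ hχ with h1 | h1
  · rw [hd, Nat.cast_eq_one] at h1
    rw [hd', (mul_eq_one.mp h1).2, Nat.cast_one]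
  · rw [hd, Nat.cast_inj] at h1
    rw [hd', Nat.eq_of_mul_eq_mul_left hm (h1.trans (mul_one m).symm), Nat.cast_one]

/-- The kernel side of the main theorem: if the complement moves some linear character of the
abelian kernel then there is an abelian normal subgroup of index `m`. -/
theorem exists_normal_abelian {m : ℕ} (hm : 2 ≤ m) (h : TwoDeg G m)
    (hcop : (Nat.card π.ker).Coprime (Nat.card H)) (hnil : Group.IsNilpotent H)
    {l₀ : π.ker →* ℂˣ} (hl₀ : stabH π s l₀ ≠ ⊤) :
    ∃ A : Subgroup G, A.Normal ∧ (∀ a ∈ A, ∀ b ∈ A, a * b = b * a) ∧ A.index = m := by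
  classical
  have hm0 : 0 < m := by omega
  have hsurj : Function.Surjective π := fun x => ⟨s x, hs x⟩
  have hH : TwoDeg H m := h.of_surjective π hsurj
  set C : Subgroup H := ⨅ l : π.ker →* ℂˣ, stabH π s l with hC
  have hmemC : ∀ x, x ∈ C ↔ ∀ l, twist π s x l = l := fun x => by
    rw [hC, Subgroup.mem_iInf]; rfl
  haveI hCn : C.Normal := ⟨fun x hx g => by
    rw [hmemC] at hx ⊢
    intro l
    rw [← twist_twist, ← twist_twist, hx, twist_twist, mul_inv_cancel, twist_one]⟩
  -- the quotient by the kernel of the action is abelian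
  have hab : ∀ a b : H, a * b * a⁻¹ * b⁻¹ ∈ C := by
    by_contra hne
    haveI : Nontrivial (H ⧸ C) := by
      rw [QuotientGroup.nontrivial_iff]
      intro hh
      exact hne fun a b => hh ▸ Subgroup.mem_top _
    haveI : Group.IsNilpotent (H ⧸ C) :=
      Group.nilpotent_of_surjective (QuotientGroup.mk' C) (QuotientGroup.mk'_surjective C)
    haveI : Nontrivial (Subgroup.center (H ⧸ C)) :=
      (Subgroup.nontrivial_iff_ne_bot _).mpr (Group.IsNilpotent.center_ne_bot _)
    obtain ⟨⟨q, hq⟩, hq1⟩ := exists_ne (1 : Subgroup.center (H ⧸ C))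
    obtain ⟨z, rfl⟩ := QuotientGroup.mk_surjective q
    have hz : z ∉ C := fun hz => hq1 (Subtype.ext ((QuotientGroup.eq_one_iff z).mpr hz))
    rw [hmemC, not_forall] at hz
    obtain ⟨l, hl⟩ := hz
    rcases stabH_cases hs hN hm0 h l with htop | ⟨hidx, hcomm⟩
    · exact hl (mem_stabH π s |>.mp (htop ▸ Subgroup.mem_top z))
    set S := stabH π s l with hS
    set Sb : Subgroup (H ⧸ C) := S.map (QuotientGroup.mk' C) with hSb
    set B : Subgroup (H ⧸ C) := Sb ⊔ Subgroup.zpowers (z : H ⧸ C) with hB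
    have hBc : ∀ a ∈ B, ∀ b ∈ B, a * b = b * a := by
      have h1 : ∀ a ∈ Sb, ∀ b ∈ Sb, a * b = b * a := by
        rintro _ ⟨a, ha, rfl⟩ _ ⟨b, hb, rfl⟩
        rw [← map_mul, ← map_mul, hcomm a ha b hb]
      have h2 : B ≤ Subgroup.centralizer (Sb : Set (H ⧸ C)) :=
        sup_le (fun a ha => Subgroup.mem_centralizer_iff.mpr fun b hb => h1 b hb a ha)
          (Subgroup.zpowers_le.mpr (Subgroup.mem_centralizer_iff.mpr fun b _ =>
            Subgroup.mem_center_iff.mp hq b))
      have h3 : B ≤ Subgroup.centralizer (B : Set (H ⧸ C)) := by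
        rw [Subgroup.le_centralizer_iff]
        exact sup_le (Subgroup.le_centralizer_iff.mp h2)
          (Subgroup.zpowers_le.mpr (Subgroup.mem_centralizer_iff.mpr fun b _ =>
            Subgroup.mem_center_iff.mp hq b))
      exact fun a ha b hb => (Subgroup.mem_centralizer_iff.mp (h3 ha) b hb).symm
    have hlt : B.index < m := by
      have hle : Sb ≤ B := le_sup_left
      have hCS : C ≤ S := iInf_le _ l
      have hi : Sb.index = m := by
        rw [hSb, Subgroup.index_map_eq _ (QuotientGroup.mk'_surjective C) (by simpa using hCS)]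
        exact hidx
      have hlt' : Sb < B := by
        refine lt_of_le_of_ne hle fun e => hl ?_
        have hzB : (z : H ⧸ C) ∈ Sb :=
          e.symm ▸ Subgroup.mem_sup_right (Subgroup.mem_zpowers _)
        obtain ⟨w, hw, hwz⟩ := hzB
        have h4 : w⁻¹ * z ∈ C := (QuotientGroup.eq).mp hwz
        have h5 := S.mul_mem hw (hCS h4)
        rw [mul_inv_cancel_left] at h5
        exact (mem_stabH π s).mp h5
      rw [← hi]
      exact Subgroup.index_strictAnti hlt'
    have hQ := (hH.of_surjective _ (QuotientGroup.mk'_surjective C)).comm_of_index_lt hBc hlt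
    refine hne fun a b => ?_
    rw [← QuotientGroup.eq_one_iff, QuotientGroup.mk_mul, QuotientGroup.mk_mul,
      QuotientGroup.mk_mul, hQ a b, QuotientGroup.mk_inv, QuotientGroup.mk_inv,
      mul_inv_cancel_right, mul_inv_cancel]
  have hswap : ∀ (a b : H) (l : π.ker →* ℂˣ),
      twist π s a (twist π s b l) = twist π s b (twist π s a l) := by
    intro a b l
    have h1 := (hmemC _).mp (hab a b) (twist π s b (twist π s a l))
    rw [twist_twist π s b a, twist_twist π s (a * b * a⁻¹ * b⁻¹)] at h1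
    rw [twist_twist, twist_twist, ← h1]
    congr 1
    group
  -- every nontrivial stabiliser is the kernel of the action
  have hstab : ∀ l, stabH π s l ≠ ⊤ → stabH π s l = C := by
    intro l hl
    refine le_antisymm (fun x hx => ?_) (iInf_le _ l)
    by_contra hxC
    rw [hmemC, not_forall] at hxC
    obtain ⟨μ, hμ⟩ := hxC
    set ν := μ⁻¹ * twist π s x μ with hν
    have h1 : twist π s x μ = μ * ν := (mul_inv_cancel_left μ (twist π s x μ)).symm
    have hνx : twist π s x ν ≠ ν := fun h2 => by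
      rw [eq_one_of_fixed_shift hcop h1 h2] at h1
      exact hμ (h1.trans (mul_one μ))
    have hx' : twist π s x l = l := (mem_stabH π s).mp hx
    have hle : stabH π s (l * ν) ≤ stabH π s l ⊓ stabH π s ν := by
      intro y hy
      rw [mem_stabH, twist_mul] at hy
      -- the two parts are separately fixed
      have h2 : ν * (twist π s y ν)⁻¹ = l⁻¹ * twist π s y l := by
        exact shift_aux (L := π.ker →* ℂˣ) hy
      have hfixd : twist π s x (l⁻¹ * twist π s y l) = l⁻¹ * twist π s y l := by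
        rw [twist_mul, twist_inv, hswap, hx']
      have hd : twist π s x (μ * (twist π s y μ)⁻¹) =
          μ * (twist π s y μ)⁻¹ * (ν * (twist π s y ν)⁻¹) := by
        rw [twist_mul, twist_inv, hswap, h1, twist_mul]
        exact shift_aux' (L := π.ker →* ℂˣ) _ _ _ _
      rw [h2] at hd
      have h3 := eq_one_of_fixed_shift hcop hd hfixd
      have h4 : twist π s y l = l := by
        exact ((inv_mul_eq_one (a := l)).mp h3).symm
      refine ⟨h4, (mem_stabH π s).mpr ?_⟩
      rw [h4] at hy
      exact mul_left_cancel hy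
    have hxν : x ∉ stabH π s ν := fun hh => hνx ((mem_stabH π s).mp hh)
    have hlν : stabH π s (l * ν) ≠ ⊤ := fun hh => hl (top_le_iff.mp (hh ▸ hle.trans inf_le_left))
    obtain ⟨hi1, -⟩ := (stabH_cases hs hN hm0 h _).resolve_left hlν
    obtain ⟨hi2, -⟩ := (stabH_cases hs hN hm0 h _).resolve_left hl
    have heq : stabH π s (l * ν) = stabH π s l := by
      by_contra hne
      have := Subgroup.index_strictAnti (lt_of_le_of_ne (hle.trans inf_le_left) hne)
      omega
    exact hxν ((heq ▸ hle) hx).2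
  obtain ⟨hidx, hcomm⟩ := (stabH_cases hs hN hm0 h l₀).resolve_left hl₀
  rw [hstab l₀ hl₀] at hidx hcomm
  refine ⟨C.comap π, hCn.comap π, ?_, ?_⟩
  · have hcent : ∀ t ∈ C, ∀ n ∈ π.ker, s t * n = n * s t := by
      intro t ht n hn
      have hfix : ∀ l : π.ker →* ℂˣ,
          l ⟨s t * n * (s t)⁻¹, π.normal_ker.conj_mem n hn _⟩ = l ⟨n, hn⟩ := by
        intro l
        have h2 := DFunLike.congr_fun ((hmemC _).mp (C.inv_mem ht) l) ⟨n, hn⟩
        simpa [twist_apply] using h2
      have hsep : (⟨s t * n * (s t)⁻¹, π.normal_ker.conj_mem n hn _⟩ : π.ker) * ⟨n, hn⟩⁻¹ = 1 := by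
        cases nonempty_fintype π.ker
        refine eq_one_of_forall_irr fun φ => ?_
        obtain ⟨f, hf⟩ := exists_hom_of_apply_one_eq_one (IsIrrCharacter.isCharacter φ.2)
          (apply_one_eq_one_of_comm (fun a b => Subtype.ext (hN a a.2 b b.2)) φ.2)
        rw [hf]
        simp only [map_mul, map_inv, hfix f, mul_inv_cancel, map_one]
      have h3 := congrArg Subtype.val (mul_inv_eq_one.mp hsep)
      exact mul_inv_eq_iff_eq_mul.mp h3
    intro a ha b hb
    rw [Subgroup.mem_comap] at ha hb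
    set n := a * (s (π a))⁻¹ with hn
    set n' := b * (s (π b))⁻¹ with hn'
    have hnN : n ∈ π.ker := by rw [MonoidHom.mem_ker, hn, map_mul, map_inv, hs, mul_inv_cancel]
    have hnN' : n' ∈ π.ker := by rw [MonoidHom.mem_ker, hn', map_mul, map_inv, hs, mul_inv_cancel]
    have e1 : a = n * s (π a) := by rw [hn, inv_mul_cancel_right]
    have e2 : b = n' * s (π b) := by rw [hn', inv_mul_cancel_right]
    have c1 : Commute n n' := hN n hnN n' hnN'
    have c2 : Commute (s (π a)) n' := hcent _ ha n' hnN'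
    have c3 : Commute (s (π b)) n := hcent _ hb n hnN
    have c4 : Commute (s (π a)) (s (π b)) := Commute.map (hcomm _ ha _ hb) s
    have d1 : Commute (n * s (π a)) n' := Commute.mul_left c1 c2
    have d2 : Commute (n * s (π a)) (s (π b)) := Commute.mul_left c3.symm c4
    rw [e1, e2]
    exact Commute.mul_right d1 d2
  · rw [Subgroup.index_comap_of_surjective _ hsurj, hidx]

end Degrees

end CfsgLib.Char.TwoDegrees
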