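import Cfsg.Agent.Lib.Char.TwoDegrees.Main
import Cfsg.Agent.Lib.Char.Monomial

/-!
# Isaacs, Corollary 12.6: two degrees force an abelian derived subgroup
-/

set_option autoImplicit false

namespace CfsgLib.Char.TwoDegrees

universe u

variable {G : Type u} [Group G] [Finite G]

theorem commutator_le_of_index {m : ℕ} [Fintype G] (h : TwoDeg G m) {B : Subgroup G}
    (hB : B.index = m) : commutator G ≤ B := by
  classical
  cases nonempty_fintype B
  set P := Cfsg.indFun B (fun _ => (1 : ℂ)) with hP
  have hPc : Cfsg.IsCharacter G P := IsCharacter.indFun B isCharacter_one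
  obtain ⟨c, hc, hexp⟩ := IsCharacter.exists_multiplicity hPc
  have htriv : Cfsg.classInner P (fun _ => 1) = 1 := by
    rw [hP, classInner_indFun B (fun _ => 1) (fun _ _ => rfl)]
    exact classInner_irr_self isIrrCharacter_one
  intro x hx
  have hx1 : P x = P 1 := by
    rw [hexp x, hexp 1]
    refine Finset.sum_congr rfl fun φ _ => ?_
    by_cases hz : c φ = 0
    · simp [hz]
    have hne : Cfsg.classInner P (φ : G → ℂ) ≠ 0 := by
      rw [hc]; exact Nat.cast_ne_zero.mpr hz
    have hlin : (φ : G → ℂ) 1 = 1 := by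
      rcases h φ φ.2 with e | e
      · exact e
      · obtain ⟨a, b, ha, hb, -, heq⟩ := IsCharacter.constituent_degree_le hPc φ.2 hne
        rw [hP, indFun_one, mul_one, hB, Nat.cast_inj] at hb
        rw [e, Nat.cast_inj] at ha
        have hPφ := heq (ha.symm.trans hb)
        by_contra h1
        have hm : (φ : G → ℂ) ≠ fun _ => 1 := fun hh => h1 (congrFun hh 1)
        rw [hPφ, classInner_irr_ne φ.2 isIrrCharacter_one hm] at htriv
        exact zero_ne_one htriv
    obtain ⟨f, hf⟩ := exists_hom_of_apply_one_eq_one (IsIrrCharacter.isCharacter φ.2) hlin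
    rw [hf]
    simp only [MonoidHom.mem_ker.mp (Abelianization.commutator_subset_ker f hx), map_one]
  rw [hP, indFun_one, mul_one, indFun_def,
    inv_mul_eq_iff_eq_mul₀ (Nat.cast_ne_zero.mpr Nat.card_pos.ne')] at hx1
  by_contra hxH
  have hlt : (∑ y : G, Cfsg.extendByZero B (fun _ => (1 : ℂ)) (y⁻¹ * x * y)) =
      ((Finset.univ.filter fun y : G => y⁻¹ * x * y ∈ B).card : ℂ) := by
    rw [← Finset.sum_boole]
    refine Finset.sum_congr rfl fun y _ => ?_
    split_ifs with hy
    · rw [extendByZero_apply_mem B _ hy]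
    · rw [extendByZero_apply_notMem B _ hy]
  rw [hlt, ← Nat.cast_mul, Nat.cast_inj, mul_comm, B.index_mul_card] at hx1
  have huniv := (Finset.card_eq_iff_eq_univ _).mp (hx1.trans Nat.card_eq_fintype_card)
  have := (Finset.mem_filter.mp (huniv ▸ Finset.mem_univ (1 : G))).2
  exact hxH (by simpa using this)

/-- Isaacs 12.6. -/
theorem commutator_comm {m : ℕ} (hcd : ∀ χ : Cfsg.IrrCharacter G,
      Cfsg.charDegree (χ : G → ℂ) = 1 ∨ Cfsg.charDegree (χ : G → ℂ) = m)
    (hm : ∃ χ : Cfsg.IrrCharacter G, Cfsg.charDegree (χ : G → ℂ) = m) (hm1 : m ≠ 1) :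
    ∀ a ∈ commutator G, ∀ b ∈ commutator G, a * b = b * a := by
  classical
  cases nonempty_fintype G
  have h : TwoDeg G m := twoDeg_of_charDegree hcd
  rcases main hcd hm hm1 with ⟨A, hAn, hAc, hAi⟩ | ⟨p, e, hp, -, P, A, hPn, hAn, hPp, hA, hi, hs⟩
  · intro a ha b hb
    exact hAc a (commutator_le_of_index h hAi ha) b (commutator_le_of_index h hAi hb)
  · haveI := hPn
    haveI := hAn
    haveI : Fact p.Prime := ⟨hp⟩
    haveI : Group.IsNilpotent (G ⧸ Subgroup.center G) :=
      IsPGroup.isNilpotent (isPGroup_quotient_center hPp hA hi hs)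
    haveI : Group.IsNilpotent G := Group.of_quotient_center_nilpotent inferInstance
    intro a ha b hb
    rw [← inv_mul_eq_one.trans eq_comm]
    refine eq_one_of_forall_irr fun χ => ?_
    obtain ⟨H, lam, hlam⟩ := exists_monomial χ.2
    have hidx : (χ : G → ℂ) 1 = (H.index : ℂ) := by
      rw [hlam, indFun_one, map_one, Units.val_one, mul_one]
    have hGH : commutator G ≤ H := by
      rcases h χ χ.2 with e | e
      · rw [hidx, Nat.cast_eq_one, Subgroup.index_eq_one] at e
        rw [e]; exact le_top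
      · rw [hidx, Nat.cast_inj] at e
        exact commutator_le_of_index h e
    set c := (b * a)⁻¹ * (a * b) with hc
    have hval : ∀ y : G, Cfsg.extendByZero H (fun h => (lam h : ℂ)) (y⁻¹ * c * y) = 1 := by
      intro y
      have hn : (commutator G).Normal := inferInstance
      have ha' : y⁻¹ * a * y ∈ H := hGH (by simpa using hn.conj_mem a ha y⁻¹)
      have hb' : y⁻¹ * b * y ∈ H := hGH (by simpa using hn.conj_mem b hb y⁻¹)
      have e : y⁻¹ * c * y = (((⟨_, hb'⟩ : H) * ⟨_, ha'⟩)⁻¹ * (⟨_, ha'⟩ * ⟨_, hb'⟩) : H) := by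
        simp only [hc, Subgroup.coe_mul, Subgroup.coe_inv]
        group
      rw [e, extendByZero_coe]
      simp only [map_mul, map_inv, mul_comm (lam ⟨_, hb'⟩), inv_mul_cancel, Units.val_one]
    rw [hlam, indFun_one, map_one, Units.val_one, mul_one, indFun_def,
      Finset.sum_congr rfl fun y _ => hval y, Finset.sum_const, Finset.card_univ, nsmul_eq_mul,
      mul_one, ← Nat.card_eq_fintype_card,
      inv_mul_eq_iff_eq_mul₀ (Nat.cast_ne_zero.mpr Nat.card_pos.ne'), mul_comm]
    exact_mod_cast H.index_mul_card.symm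

end CfsgLib.Char.TwoDegrees
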